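import Groth.Agent.ConormalLib.Trans
import Groth.Agent.DCohLib.LocLift
import Groth.Agent.LciH1Lib.Basic
import Groth.Agent.CILib.KoszulRegular

/-!
# The transitivity sequence near a point where the first immersion is H₁-regular
-/

set_option autoImplicit false
set_option backward.isDefEq.respectTransparency false
set_option backward.defeqAttrib.useBackward true
set_option linter.style.haveILetI false
set_option maxHeartbeats 1000000

universe u

open CategoryTheory CategoryTheory.Limits AlgebraicGeometry TopologicalSpace Opposite Groth.Agent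

namespace Groth.Agent.RegPairLib

open ConormalLib

variable {Z Y X : Scheme.{u}} (i : Z ⟶ Y) (j : Y ⟶ X)

/-- Charts with H₁-regular generators near a point where the immersion is H₁-regular. -/
theorem exists_tower_h1_at [IsImmersion i] [IsImmersion j] (z : Z)
    (hi : RegImm.IsRegularImmersionAt RegImm.Kind.h1 i z) {V : Z.Opens} (hV : z ∈ V) :
    ∃ U : X.Opens, Tower i j U ∧ z ∈ i ⁻¹ᵁ (j ⁻¹ᵁ U) ∧ i ⁻¹ᵁ (j ⁻¹ᵁ U) ≤ V ∧
      ∃ (n : ℕ) (f : Fin n → Γ(Y, j ⁻¹ᵁ U)), CAlgX.IsH1Regular f ∧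
        RingHom.ker (i.app (j ⁻¹ᵁ U)).hom = Ideal.span (Set.range f) := by
  obtain ⟨⟨VY, hVY⟩, hzY, hc, rs, hrs, hker⟩ := hi
  obtain ⟨U, T, hz, hV', hUO, hk, hj⟩ := exists_tower i j z hV (O := VY) hzY
  obtain ⟨b, hbU, hzb⟩ := hVY.exists_basicOpen_le (V := j ⁻¹ᵁ U) ⟨i z, hz⟩ hzY
  obtain ⟨a, ha⟩ := T.surjY (Y.presheaf.map (homOfLE hUO).op b)
  have hpre : j ⁻¹ᵁ X.basicOpen a = Y.basicOpen b := by
    rw [Scheme.preimage_basicOpen, ha]
    exact (Y.basicOpen_res b (homOfLE hUO).op).trans (inf_eq_right.2 hbU)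
  have hle : X.basicOpen a ≤ U := X.basicOpen_le a
  refine ⟨X.basicOpen a, tower_of_le i j (T.affU.basicOpen a) (hle.trans hk) (hle.trans hj), ?_,
    fun y hy => hV' (hle hy), ?_⟩
  · show i z ∈ j ⁻¹ᵁ X.basicOpen a
    rw [hpre]
    exact hzb
  · suffices key : ∀ O : Y.Opens, O = Y.basicOpen b → ∃ (n : ℕ) (f : Fin n → Γ(Y, O)), CAlgX.IsH1Regular f ∧
        RingHom.ker (i.app O).hom = Ideal.span (Set.range f) from key _ hpre
    rintro _ rfl
    letI : Algebra Γ(Y, VY) Γ(Y, Y.basicOpen b) := (Y.presheaf.map (homOfLE (Y.basicOpen_le b)).op).hom.toAlgebra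
    haveI : IsLocalization.Away b Γ(Y, Y.basicOpen b) := hVY.isLocalization_basicOpen b
    obtain ⟨-, hk'⟩ := RelDivLib.closed_and_ker_pullback (IsPullback.id_horiz i) hVY hc (hVY.basicOpen b)
      (V := Y.basicOpen b) (Y.basicOpen_le b)
    refine ⟨rs.length, fun k => algebraMap Γ(Y, VY) _ (rs.get k),
      RelDivLib.isH1Regular_map (Submonoid.powers b) hrs, ?_⟩
    rw [hk', show RingHom.ker (i.app VY).hom = Ideal.ofList rs from hker]
    rw [show Ideal.ofList rs = Ideal.span (Set.range rs.get) by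
      rw [Set.range_list_get], Ideal.map_span, ← Set.range_comp]
    congr 2

variable {i j} [QuasiCompact i] [QuasiCompact j] [IsImmersion i] [IsImmersion j]
  {a : (Scheme.Modules.pullback i).obj (Omega.conormal j) ⟶ Omega.conormal (i ≫ j)}
  (ha : OmegaSh.IsConormalMap (i ≫ j) j (𝟙 X) i a)
  {b : (Scheme.Modules.pullback (𝟙 Z)).obj (Omega.conormal (i ≫ j)) ⟶ Omega.conormal i}
  (hb : OmegaSh.IsConormalMap i (i ≫ j) j (𝟙 Z) b)

include ha hb in
theorem comp_eq_zero : a ≫ Tower.snd b = 0 := by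
  refine (PullbackMod.eq_zero_iff_stalk _).mpr fun z => LinearMap.ext fun t => ?_
  obtain ⟨V, hz, m, rfl⟩ := TopCat.Presheaf.exists_germ_eq ((Scheme.Modules.pullback i).obj (Omega.conormal j)).presheaf t
  obtain ⟨U, T, hzU, hle, -⟩ := exists_tower i j z hz (O := ⊤) trivial
  rw [LinearMap.zero_apply, ← TopCat.Presheaf.germ_res_apply _ (homOfLE hle) z hzU m, PullbackMod.stalkLin_germ]
  show _ = (0 : _)
  rw [show (a ≫ Tower.snd b).app _ _ = 0 from T.comp_apply_eq_zero ha hb _, map_zero]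

include ha hb in
theorem exact_seq : (ShortComplex.mk a (Tower.snd b) (comp_eq_zero ha hb)).Exact := by
  refine exact_of_local a (Tower.snd b) _ fun z V hz m hm => ?_
  obtain ⟨U, T, hzU, hle, -⟩ := exists_tower i j z hz (O := ⊤) trivial
  exact ⟨_, hle, hzU, T.exists_lift ha hb _ (by rw [OmegaUnivLib.hom_natural, hm, map_zero])⟩

include hb in
theorem epi_snd : Epi (Tower.snd b) := by
  refine epi_of_local (Tower.snd b) fun z V hz m => ?_
  obtain ⟨U, T, hzU, hle, -⟩ := exists_tower i j z hz (O := ⊤) trivial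
  exact ⟨_, hle, hzU, T.snd_surjective hb _⟩

omit [QuasiCompact i] [QuasiCompact j] [IsImmersion i] [IsImmersion j] in
theorem res_eq_zero (M : Z.Modules) {V W W' : Z.Opens} (h₁ : W ≤ V) (h₂ : W' ≤ W) (g : W' ⟶ V) {m : Γ(M, V)}
    (h : M.presheaf.map (homOfLE h₁).op m = 0) : M.presheaf.map g.op m = 0 := by
  rw [show g.op = (homOfLE h₁).op ≫ (homOfLE h₂).op from Subsingleton.elim _ _, Functor.map_comp,
    ConcreteCategory.comp_apply, h, map_zero]

include ha in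
theorem mono_restrict {O : Z.Opens} (hO : ∀ z ∈ O, RegImm.IsRegularImmersionAt RegImm.Kind.h1 i z) :
    Mono ((Scheme.Modules.restrictFunctor O.ι).map a) := by
  refine mono_of_local _ fun z V hz m hm => ?_
  have hm' : a.app (O.ι ''ᵁ V) m = 0 := hm
  obtain ⟨U, T, hzU, hle, n, f, hf, hker⟩ :=
    exists_tower_h1_at i j (O.ι z) (hO _ z.2) (V := O.ι ''ᵁ V) ⟨z, hz, rfl⟩
  refine ⟨O.ι ⁻¹ᵁ (i ⁻¹ᵁ (j ⁻¹ᵁ U)), fun y hy => ?_, hzU, ?_⟩
  · obtain ⟨y', hy', he⟩ := hle hy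
    rwa [show y' = y from Subtype.ext he] at hy'
  · have h0 := T.eq_zero_of_h1 ha hf hker (((Scheme.Modules.pullback i).obj (Omega.conormal j)).presheaf.map (homOfLE hle).op m)
      (by rw [OmegaUnivLib.hom_natural, hm', map_zero])
    have hsub : O.ι ''ᵁ (O.ι ⁻¹ᵁ (i ⁻¹ᵁ (j ⁻¹ᵁ U))) ≤ i ⁻¹ᵁ (j ⁻¹ᵁ U) := (Scheme.Hom.image_preimage_eq_opensRange_inf O.ι _).trans_le inf_le_right
    refine (congr($(Scheme.Modules.restrict_map ((Scheme.Modules.pullback i).obj (Omega.conormal j)) O.ι _) m)).trans ?_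
    exact res_eq_zero ((Scheme.Modules.pullback i).obj (Omega.conormal j)) hle hsub _ h0

include ha hb in
theorem exists_splitting (z : Z) (hz : RegImm.IsRegularImmersionAt RegImm.Kind.h1 i z) :
    ∃ U : Z.Opens, z ∈ U ∧
      ∀ w : (Scheme.Modules.restrictFunctor U.ι).map a ≫ (Scheme.Modules.restrictFunctor U.ι).map (Tower.snd b) = 0,
        Nonempty (ShortComplex.mk ((Scheme.Modules.restrictFunctor U.ι).map a)
          ((Scheme.Modules.restrictFunctor U.ι).map (Tower.snd b)) w).Splitting := by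
  obtain ⟨VY, hzY, hc, rs, hrs, hker⟩ := id hz
  have hO : ∀ z' ∈ i ⁻¹ᵁ VY.1, RegImm.IsRegularImmersionAt RegImm.Kind.h1 i z' :=
    fun z' h => ⟨VY, h, hc, rs, hrs, hker⟩
  obtain ⟨UX, T, hzU, hle, n, f, hf, hk⟩ := exists_tower_h1_at i j z hz (V := i ⁻¹ᵁ VY.1) hzY
  obtain ⟨e⟩ := T.nonempty_free hf hk
  let W : Z.Opens := i ⁻¹ᵁ (j ⁻¹ᵁ UX)
  let F := Scheme.Modules.restrictFunctor W.ι
  haveI := epi_snd hb (i := i) (j := j)
  haveI : Epi (F.map (Tower.snd b)) :=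
    haveI : PreservesColimitsOfSize.{0, 0} F := (Scheme.Modules.restrictAdjunction W.ι).leftAdjoint_preservesColimits
    inferInstance
  let e' : F.obj (Omega.conormal i) ≅ FlatMod.freeMod W.toScheme n := e
  obtain ⟨W', hzW', ψ, hψ⟩ := DCohLib.exists_lift_free (F.map (Tower.snd b) ≫ e'.hom)
    (𝟙 (FlatMod.freeMod W.toScheme n)) ⟨z, hzU⟩
  let F₁ := Scheme.Modules.restrictFunctor W'.ι
  let U' : Z.Opens := W.ι ''ᵁ W'
  let v := (W.ι.isoImage W').inv
  let G := Scheme.Modules.restrictFunctor v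
  have hv : v ≫ W'.ι ≫ W.ι = U'.ι := W.ι.isoImage_inv_ι W'
  let τ : Scheme.Modules.restrictFunctor U'.ι ≅ F ⋙ F₁ ⋙ G :=
    (Scheme.Modules.restrictFunctorCongr hv).symm ≪≫ Scheme.Modules.restrictFunctorComp v (W'.ι ≫ W.ι) ≪≫
      Functor.isoWhiskerRight (Scheme.Modules.restrictFunctorComp W'.ι W.ι) G
  have hψ' : F₁.map e'.hom ≫ ψ ≫ F₁.map (F.map (Tower.snd b)) = 𝟙 _ := by
    rw [← cancel_mono (F₁.map e'.hom), Category.assoc, Category.assoc, ← F₁.map_comp, Category.id_comp]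
    rw [show ψ ≫ F₁.map (F.map (Tower.snd b) ≫ e'.hom) = 𝟙 _ from hψ.trans (F₁.map_id _), Category.comp_id]
  refine ⟨U', ⟨⟨z, hzU⟩, hzW', rfl⟩, fun w => ?_⟩
  let H := Scheme.Modules.restrictFunctor U'.ι
  let S := ShortComplex.mk (H.map a) (H.map (Tower.snd b)) w
  have hS : S.Exact := (exact_seq ha hb).map H
  haveI : Mono S.f := mono_restrict ha fun z' hz' => by
    obtain ⟨y, -, rfl⟩ := hz'
    exact hO _ (hle y.2)
  refine ⟨ShortComplex.Splitting.ofExactOfSection S hS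
    (τ.hom.app _ ≫ G.map (F₁.map e'.hom ≫ ψ) ≫ τ.inv.app _) ?_ inferInstance⟩
  show (τ.hom.app _ ≫ G.map (F₁.map e'.hom ≫ ψ) ≫ τ.inv.app _) ≫ H.map (Tower.snd b) = 𝟙 _
  rw [Category.assoc, Category.assoc, ← τ.inv.naturality]
  rw [Functor.comp_map, Functor.comp_map, ← G.map_comp_assoc, Category.assoc, hψ']
  simp [H]

end Groth.Agent.RegPairLib
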