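import Groth.Agent.CancelLib.Scheme
import Groth.Agent.RegIdealLib.Comp

/-!
# Regularity of a pair of immersions at a point, read on stalks
-/

set_option autoImplicit false
set_option linter.style.haveILetI false
set_option backward.isDefEq.respectTransparency false

universe u

open CategoryTheory AlgebraicGeometry IsLocalRing

namespace Groth.Agent.RegPairLib

variable {Z Y X : Scheme.{u}}

theorem at_iff_stalk [IsLocallyNoetherian X] (k : RegImm.Kind) (i : Z ⟶ X) [IsImmersion i] (z : Z) :
    RegImm.IsRegularImmersionAt k i z ↔ CInt.IsRegularIdeal (RingHom.ker (i.stalkMap z).hom) :=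
  ⟨CancelLib.isRegularIdeal_stalk_of_at i z, CancelLib.isRegularImmersionAt_of_stalk k i z⟩

theorem regular_pair_iff [IsLocallyNoetherian X] (i : Z ⟶ Y) (j : Y ⟶ X) [IsImmersion i] [IsImmersion j] (z : Z) :
    (RegImm.IsRegularImmersionAt RegImm.Kind.regular i z ∧ RegImm.IsRegularImmersionAt RegImm.Kind.regular j (i z)) ↔
      (RegImm.IsRegularImmersionAt RegImm.Kind.regular i z ∧ RegImm.IsRegularImmersionAt RegImm.Kind.regular (i ≫ j) z) := by
  haveI : IsLocallyNoetherian Y := LocallyOfFiniteType.isLocallyNoetherian j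
  rw [at_iff_stalk .regular i z, at_iff_stalk .regular j (i z), at_iff_stalk .regular (i ≫ j) z,
    Scheme.Hom.stalkMap_comp, CommRingCat.hom_comp,
    ← RegIdealLib.regular_quot_iff (j.stalkMap (i z)).hom (i.stalkMap z).hom (j.stalkMap_surjective (i z))]
  have hJK : RingHom.ker (j.stalkMap (i z)).hom ≤ RingHom.ker ((i.stalkMap z).hom.comp (j.stalkMap (i z)).hom) := by
    intro a ha
    rw [RingHom.mem_ker, RingHom.comp_apply, (RingHom.mem_ker).1 ha, map_zero]
  have hK : RingHom.ker ((i.stalkMap z).hom.comp (j.stalkMap (i z)).hom) ≤ maximalIdeal _ :=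
    le_maximalIdeal (RingHom.ker_ne_top _)
  exact ⟨fun ⟨h1, h2⟩ => ⟨h1, RegIdealLib.isRegularIdeal_of_extension hJK hK h2 h1⟩,
    fun ⟨h1, h2⟩ => ⟨h1, RegIdealLib.isRegularIdeal_of_quotient hJK hK h2 h1⟩⟩

end Groth.Agent.RegPairLib
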